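import Mathlib

/-!
# Lower semicontinuity of the dimension of the span of a family of vectors on the fibres
-/

set_option autoImplicit false
set_option linter.style.haveILetI false

universe u v w

open TensorProduct Matrix

namespace Groth.Agent.SpanRank

variable {A : Type u} [CommRing A] {ι : Type v} {σ : Type w} [Fintype ι]

/-- The vectors on the fibre at `p`. -/
noncomputable abbrev vec (a : σ → ι → A) (p : PrimeSpectrum A) (s : σ) : ι → p.asIdeal.ResidueField :=
  fun i => algebraMap A p.asIdeal.ResidueField (a s i)

theorem exists_open_linearIndependent (a : σ → ι → A) {n : ℕ} (s : Fin n → σ) (p : PrimeSpectrum A)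
    (h : LinearIndependent p.asIdeal.ResidueField (vec a p ∘ s)) :
    ∃ U : Set (PrimeSpectrum A), IsOpen U ∧ p ∈ U ∧
      ∀ q ∈ U, LinearIndependent q.asIdeal.ResidueField (vec a q ∘ s) := by
  classical
  let k := p.asIdeal.ResidueField
  let f : (Fin n → k) →ₗ[k] (ι → k) := Fintype.linearCombination k (vec a p ∘ s)
  obtain ⟨g, hg⟩ := f.exists_leftInverse_of_injective
    (LinearMap.ker_eq_bot.2 (linearIndependent_iff_injective_fintypeLinearCombination.1 h))
  let R : Matrix ι (Fin n) k := fun i j => g (Pi.single i 1) j
  obtain ⟨⟨c, hc⟩, hcR⟩ := IsLocalization.exist_integer_multiples_of_finite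
    (nonZeroDivisors (A ⧸ p.asIdeal)) (fun z : ι × Fin n => R z.1 z.2)
  choose r hr using hcR
  choose r' hr' using fun z => Ideal.Quotient.mk_surjective (r z)
  let M : Matrix (Fin n) ι A := fun j i => a (s j) i
  let R₀ : Matrix ι (Fin n) A := fun i j => r' (i, j)
  let γ : k := algebraMap (A ⧸ p.asIdeal) k c
  have hγ : γ ≠ 0 := fun hγ0 => nonZeroDivisors.ne_zero hc
    ((map_eq_zero_iff _ (FaithfulSMul.algebraMap_injective (A ⧸ p.asIdeal) k)).1 hγ0)
  have hMR : (M * R₀).map (algebraMap A k) = γ • (1 : Matrix (Fin n) (Fin n) k) := by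
    ext j l
    have hgf := congrFun (LinearMap.congr_fun hg (Pi.single j 1)) l
    rw [LinearMap.comp_apply, LinearMap.id_apply, show f (Pi.single j 1) = vec a p (s j) from
      (Fintype.linearCombination_apply_single k _ j 1).trans (one_smul _ _)] at hgf
    have h1 : ∑ i, vec a p (s j) i * R i l = (1 : Matrix (Fin n) (Fin n) k) j l := by
      rw [Matrix.one_apply]
      have h2 := LinearMap.pi_apply_eq_sum_univ g (vec a p (s j))
      rw [h2, Finset.sum_apply, Pi.single_apply] at hgf
      simp only [Pi.smul_apply, smul_eq_mul, eq_comm (a := l)] at hgf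
      rw [← hgf]
      refine Finset.sum_congr rfl fun i _ => ?_
      congr 1
      show g (Pi.single i 1) l = _
      exact congrArg (fun v : ι → k => g v l) (funext fun j' => by simp [Pi.single_apply, eq_comm])
    rw [Matrix.smul_apply, smul_eq_mul, ← h1, Finset.mul_sum, Matrix.map_apply, Matrix.mul_apply, map_sum]
    refine Finset.sum_congr rfl fun i _ => ?_
    rw [map_mul]
    have : algebraMap A k (R₀ i l) = γ * R i l := by
      rw [IsScalarTower.algebraMap_apply A (A ⧸ p.asIdeal) k]
      show algebraMap (A ⧸ p.asIdeal) k (Ideal.Quotient.mk _ (r' (i, l))) = _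
      rw [hr', hr, Algebra.smul_def]
    rw [this]
    show algebraMap A k (a (s j) i) * _ = _
    ring
  let d := (M * R₀).det
  refine ⟨PrimeSpectrum.basicOpen d, (PrimeSpectrum.basicOpen d).isOpen, ?_, fun q hq => ?_⟩
  · intro hd
    have h0 : algebraMap A k d = 0 := (Ideal.algebraMap_residueField_eq_zero).2 hd
    rw [RingHom.map_det, RingHom.mapMatrix_apply, hMR, det_smul, det_one, mul_one] at h0
    exact pow_ne_zero _ hγ h0
  · have hd : algebraMap A q.asIdeal.ResidueField d ≠ 0 := fun h0 =>
      hq ((Ideal.algebraMap_residueField_eq_zero).1 h0)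
    rw [RingHom.map_det, RingHom.mapMatrix_apply, Matrix.map_mul] at hd
    rw [Fintype.linearIndependent_iff]
    intro e he j
    have h1 : e ᵥ* (M.map (algebraMap A q.asIdeal.ResidueField)) = 0 := by
      rw [← he]
      ext i
      simp [Matrix.vecMul, dotProduct, vec, M, Function.comp_def]
    have h2 := Matrix.eq_zero_of_vecMul_eq_zero hd (v := e) (by rw [← Matrix.vecMul_vecMul, h1, Matrix.zero_vecMul])
    exact congrFun h2 j

theorem isOpen_le_finrank_span (a : σ → ι → A) (n : ℕ) :
    IsOpen {p : PrimeSpectrum A |
      n ≤ Module.finrank p.asIdeal.ResidueField (Submodule.span p.asIdeal.ResidueField (Set.range (vec a p)))} := by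
  rw [isOpen_iff_forall_mem_open]
  intro p hp
  obtain ⟨b, hb, hspan, hli⟩ := exists_linearIndependent p.asIdeal.ResidueField (Set.range (vec a p))
  haveI : Fintype b := (hli.setFinite).fintype
  have hcard : Fintype.card b = Module.finrank p.asIdeal.ResidueField
      (Submodule.span p.asIdeal.ResidueField (Set.range (vec a p))) := by
    rw [← hspan, finrank_span_set_eq_card hli, Set.toFinset_card]
  obtain ⟨e⟩ := Function.Embedding.nonempty_of_card_le (α := Fin n) (β := b)
    (by rw [Fintype.card_fin, hcard]; exact hp)
  choose s hs using fun j => hb (e j).2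
  have hli' : LinearIndependent p.asIdeal.ResidueField (vec a p ∘ s) := by
    rw [show vec a p ∘ s = (Subtype.val : b → _) ∘ e from funext hs]
    exact hli.comp e e.injective
  obtain ⟨U, hU, hpU, hUli⟩ := exists_open_linearIndependent a s p hli'
  refine ⟨U, fun q hq => ?_, hU, hpU⟩
  have h := hUli q hq
  show n ≤ _
  calc n = Module.finrank q.asIdeal.ResidueField
        (Submodule.span q.asIdeal.ResidueField (Set.range (vec a q ∘ s))) := by
          rw [finrank_span_eq_card h, Fintype.card_fin]
    _ ≤ _ := Submodule.finrank_mono (Submodule.span_mono (Set.range_comp_subset_range s (vec a q)))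

theorem isConstructible_finrank_span_eq [IsNoetherianRing A] (a : σ → ι → A) (n : ℕ) :
    Topology.IsConstructible {p : PrimeSpectrum A |
      Module.finrank p.asIdeal.ResidueField (Submodule.span p.asIdeal.ResidueField (Set.range (vec a p))) = n} := by
  have hc : ∀ {U : Set (PrimeSpectrum A)}, IsOpen U → Topology.IsConstructible U := fun hU =>
    IsRetrocompact.isConstructible hU (fun _ _ _ => TopologicalSpace.NoetherianSpace.isCompact _)
  have : {p : PrimeSpectrum A |
      Module.finrank p.asIdeal.ResidueField (Submodule.span p.asIdeal.ResidueField (Set.range (vec a p))) = n} =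
      {p | n ≤ Module.finrank p.asIdeal.ResidueField (Submodule.span p.asIdeal.ResidueField (Set.range (vec a p)))} \
      {p | n + 1 ≤ Module.finrank p.asIdeal.ResidueField (Submodule.span p.asIdeal.ResidueField (Set.range (vec a p)))} := by
    ext p
    simp only [Set.mem_diff, Set.mem_setOf_eq]
    omega
  rw [this]
  exact (hc (isOpen_le_finrank_span a n)).sdiff (hc (isOpen_le_finrank_span a (n + 1)))

end Groth.Agent.SpanRank
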